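import Groth.Agent.TauOpenLib.Main
import Groth.Agent.S2399

/-!
# The τ-trivial locus of a proper morphism is open
-/

set_option autoImplicit false
set_option linter.style.haveILetI false
set_option maxHeartbeats 1000000
universe u

open CategoryTheory CategoryTheory.Limits AlgebraicGeometry
open KFlatLib (pb)

noncomputable section

namespace TauOpenLib

/-- Spreading out over the spectrum of a Noetherian domain. -/
theorem ntfib_spread {A : Type u} [CommRing A] [IsDomain A] [IsNoetherianRing A] {X : Scheme.{u}}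
    (f : X ⟶ Spec (CommRingCat.of A)) [IsProper f] {L : X.Modules} (hL : PicF.IsInvertible L)
    (h : NTfib f L ((Spec (CommRingCat.of A)).fromSpecResidueField (genericPoint (Spec (CommRingCat.of A))))) :
    ∃ U : (Spec (CommRingCat.of A)).Opens, (U : Set (Spec (CommRingCat.of A))).Nonempty ∧
      ∀ s ∈ U, NTfib f L ((Spec (CommRingCat.of A)).fromSpecResidueField s) := by
  haveI : CompactSpace X := QuasiCompact.compactSpace_of_compactSpace f
  haveI : IsLocallyNoetherian X := LocallyOfFiniteType.isLocallyNoetherian f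
  haveI : QuasiSeparatedSpace X := inferInstance
  obtain ⟨n, X', π, j, hj, hjb, hπ, hsurj, -⟩ := ChowLib.chow_all f
  haveI := hπ
  haveI := hsurj
  haveI : IsProper (π ≫ f) := inferInstance
  haveI : IsClosedImmersion j := by
    haveI : IsProper (j ≫ CohB1.ProjSpaceOver.toBase n (Spec (CommRingCat.of A))) := by rw [hjb]; infer_instance
    haveI : IsProper j := IsProper.of_comp j (CohB1.ProjSpaceOver.toBase n (Spec (CommRingCat.of A)))
    exact IsClosedImmersion.of_isPreimmersion j j.isClosedMap.isClosed_range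
  have h0 : NTfib (j ≫ CohB1.ProjSpaceOver.toBase n _) (pb π L)
      ((Spec (CommRingCat.of A)).fromSpecResidueField (genericPoint (Spec (CommRingCat.of A)))) := by
    rw [hjb]; exact ntfib_map f π _ h
  obtain ⟨U, hU, hnt⟩ := ntfib_spread_proj j (AmpleDevLib.isInvertible_pb π hL) h0
  rw [hjb] at hnt
  refine ⟨U, hU, fun s hs => ntfib_of_cover f hL (fun _ : Unit => π) _ (fun x _ => ⟨(), π.surjective x⟩)
    fun _ => hnt s hs⟩

/-- **The τ-trivial locus of a proper morphism over a Noetherian base is open.** -/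
theorem isOpen_tauTrivialLocus {X S : Scheme.{u}} [IsNoetherian S] (f : X ⟶ S) [IsProper f] {L : X.Modules}
    (hL : PicF.IsInvertible L) : IsOpen {s : S | Pic13.IsTauTrivialAt f L s} := by
  simp only [tauTrivialAt_iff f L hL]
  refine (Groth.Agent.S2399.result _).2 fun Y hYc hYi hne => ?_
  obtain ⟨s, hs, hsY⟩ := hne
  let η := hYi.genericPoint
  have hcl : closure ({η} : Set S) = Y := hYi.closure_genericPoint hYc
  have hη : NTfib f L (S.fromSpecResidueField η) :=
    ntfib_of_specializes f L hL (specializes_iff_mem_closure.mpr (by rw [hcl]; exact hsY)) hs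
  obtain ⟨W, hW, hηW, -⟩ := exists_isAffineOpen_mem_and_subset (U := (⊤ : S.Opens)) (x := η) trivial
  let p := hW.primeIdealOf ⟨η, hηW⟩
  let A := Γ(S, W) ⧸ p.asIdeal
  haveI : IsNoetherianRing Γ(S, W) := IsLocallyNoetherian.component_noetherian ⟨W, hW⟩
  let g : Spec (CommRingCat.of A) ⟶ S :=
    Spec.map (CommRingCat.ofHom (Ideal.Quotient.mk p.asIdeal)) ≫ hW.fromSpec
  have hrg : ∀ a : Spec (CommRingCat.of A), g a ∈ W ∧ η ⤳ g a := fun a => by
    refine ⟨?_, ?_⟩
    · exact hW.range_fromSpec.subset ⟨_, rfl⟩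
    · show η ⤳ hW.fromSpec (Spec.map (CommRingCat.ofHom (Ideal.Quotient.mk p.asIdeal)) a)
      refine (congrArg (· ⤳ hW.fromSpec (Spec.map (CommRingCat.ofHom (Ideal.Quotient.mk p.asIdeal)) a))
        (hW.fromSpec_primeIdealOf ⟨η, hηW⟩)).mp ?_
      refine Specializes.map ?_ hW.fromSpec.continuous
      refine (PrimeSpectrum.le_iff_specializes _ _).1 ?_
      show p.asIdeal ≤ Ideal.comap (Ideal.Quotient.mk p.asIdeal) a.asIdeal
      exact le_trans (by rw [← RingHom.ker_eq_comap_bot, Ideal.mk_ker]) (Ideal.comap_mono bot_le)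
  have hg0 : g (genericPoint (Spec (CommRingCat.of A))) = η := by
    refine (congrArg g (genericPoint_eq_bot_of_affine _)).trans ?_
    refine (congrArg hW.fromSpec ?_).trans (hW.fromSpec_primeIdealOf ⟨η, hηW⟩)
    refine PrimeSpectrum.ext ?_
    show Ideal.comap (Ideal.Quotient.mk p.asIdeal) ⊥ = p.asIdeal
    rw [← RingHom.ker_eq_comap_bot, Ideal.mk_ker]
  have hM := AmpleDevLib.isInvertible_pb (pullback.fst f g) hL
  have key : ∀ a, NTfib (pullback.snd f g) (pb (pullback.fst f g) L)
      ((Spec (CommRingCat.of A)).fromSpecResidueField a) ↔ NTfib f L (S.fromSpecResidueField (g a)) := fun a => by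
    rw [ntfib_bc, ntfib_iff f L hL _ (congrArg g (Scheme.fromSpecResidueField_apply a _))]
  obtain ⟨U, hU, hnt⟩ := ntfib_spread (pullback.snd f g) hM ((key _).2 (by rw [hg0]; exact hη))
  have hemb : Topology.IsInducing g :=
    (hW.fromSpec.isEmbedding.comp (IsClosedImmersion.spec_of_surjective
      (CommRingCat.ofHom (Ideal.Quotient.mk p.asIdeal)) Ideal.Quotient.mk_surjective).base_closed.isEmbedding).isInducing
  obtain ⟨O, hO, hOU⟩ := hemb.isOpen_iff.1 U.2
  have hsurj : ∀ x ∈ W, η ⤳ x → ∃ a, g a = x := fun x hx hsp => by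
    have : hW.fromSpec (hW.primeIdealOf ⟨η, hηW⟩) ⤳ hW.fromSpec (hW.primeIdealOf ⟨x, hx⟩) := by
      rwa [hW.fromSpec_primeIdealOf, hW.fromSpec_primeIdealOf]
    have hle : p.asIdeal ≤ (hW.primeIdealOf ⟨x, hx⟩).asIdeal :=
      (PrimeSpectrum.le_iff_specializes _ _).2 (hW.fromSpec.isEmbedding.isInducing.specializes_iff.1 this)
    obtain ⟨a, ha⟩ : hW.primeIdealOf ⟨x, hx⟩ ∈ Set.range (PrimeSpectrum.comap (Ideal.Quotient.mk p.asIdeal)) := by
      rw [range_comap_of_surjective _ _ Ideal.Quotient.mk_surjective, Ideal.mk_ker]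
      exact hle
    exact ⟨a, (congrArg hW.fromSpec ha).trans (hW.fromSpec_primeIdealOf ⟨x, hx⟩)⟩
  refine ⟨O ∩ W, hO.inter W.2, ⟨η, ⟨?_, hηW⟩, by rw [← hcl]; exact subset_closure rfl⟩, ?_⟩
  · rw [← hg0]
    exact hOU.ge (((genericPoint_spec _).mem_open_set_iff U.2).mpr (by simpa using hU))
  · rintro x ⟨⟨hxO, hxW⟩, hxY⟩
    obtain ⟨a, rfl⟩ := hsurj x hxW (specializes_iff_mem_closure.mpr (by rw [hcl]; exact hxY))
    exact (key a).1 (hnt a (hOU.le hxO))

end TauOpenLib

end
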