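import Groth.Agent.BddFamLib.Main
import Groth.Agent.S4278
import Groth.Agent.AlgEquivLib.Geom

/-!
# Numerical triviality on the fibres of a proper morphism
-/

set_option autoImplicit false
set_option linter.style.haveILetI false
universe u

open CategoryTheory CategoryTheory.Limits AlgebraicGeometry
open KFlatLib (pb)

noncomputable section

namespace TauOpenLib

variable {X S : Scheme.{u}} (f : X ⟶ S) (L : X.Modules)

/-- `L` is numerically trivial on the fibre over a field-valued point. -/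
def NTfib {κ : Type u} [Field κ] (σ : Spec (CommRingCat.of κ) ⟶ S) : Prop :=
  @NumTrivLib.NT κ _ (pullback f σ) ⟨pullback.snd f σ⟩ (pb (pullback.fst f σ) L)

/-- Transport of numerical triviality along isomorphisms over the field. -/
theorem nt_of_iso {E : Type u} [Field E] {Y Z : Scheme.{u}} (e : Y ≅ Z) (pZ : Z ⟶ Spec (CommRingCat.of E)) [IsProper pZ]
    (pY : Y ⟶ Spec (CommRingCat.of E)) (he : e.hom ≫ pZ = pY) {N : Z.Modules} {M : Y.Modules} (i : pb e.hom N ≅ M)
    (h : @NumTrivLib.NT E _ Z ⟨pZ⟩ N) : @NumTrivLib.NT E _ Y ⟨pY⟩ M := by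
  letI : Z.Over (Spec (CommRingCat.of E)) := ⟨pZ⟩
  letI : Y.Over (Spec (CommRingCat.of E)) := ⟨pY⟩
  haveI : IsProper (Z ↘ Spec (CommRingCat.of E)) := ‹IsProper pZ›
  haveI : IsProper (Y ↘ Spec (CommRingCat.of E)) := by
    show IsProper pY
    rw [← he]; infer_instance
  exact (NumTrivLib.NT.pullback (k := E) (g := e.hom) he h).iso i

/-- The notion does not change under field extensions. -/
theorem ntfib_comp [IsProper f] (hL : PicF.IsInvertible L) {κ E : Type u} [Field κ] [Field E]
    (ω : Spec (CommRingCat.of E) ⟶ Spec (CommRingCat.of κ)) (σ : Spec (CommRingCat.of κ) ⟶ S) :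
    NTfib f L (ω ≫ σ) ↔ NTfib f L σ := by
  obtain ⟨φ, rfl⟩ := Spec.map_surjective ω
  obtain ⟨φ⟩ := φ
  letI : Algebra κ E := φ.toAlgebra
  letI : (pullback f σ).Over (Spec (CommRingCat.of κ)) := ⟨pullback.snd f σ⟩
  haveI : IsProper (pullback f σ ↘ Spec (CommRingCat.of κ)) := inferInstanceAs (IsProper (pullback.snd f σ))
  letI := HilbPolyLib.bcOver (k := κ) (X := pullback f σ) E
  have H : IsPullback (Curv2.bcFst κ (pullback f σ) E ≫ pullback.fst f σ) (Curv2.bcSnd κ (pullback f σ) E) f
      (Spec.map (CommRingCat.ofHom (algebraMap κ E)) ≫ σ) :=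
    (IsPullback.of_hasPullback _ _).paste_horiz (IsPullback.of_hasPullback f σ)
  let e := H.isoPullback
  have hinv := AmpleDevLib.isInvertible_pb (pullback.fst f σ) hL
  constructor
  · intro h
    have h' : @NumTrivLib.NT E _ (Curv2.bc κ (pullback f σ) E) _ (pb (Curv2.bcFst κ (pullback f σ) E)
        (pb (pullback.fst f σ) L)) :=
      nt_of_iso e (pullback.snd f _) _ H.isoPullback_hom_snd
        ((Scheme.Modules.pullbackComp _ _).app L ≪≫ (Scheme.Modules.pullbackCongr H.isoPullback_hom_fst).app L ≪≫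
          ((Scheme.Modules.pullbackComp _ _).app L).symm) h
    exact NumTrivLib.NT.of_isNumEquivZero hinv (NumTrivLib.NT.of_bc E hinv h')
  · intro h
    haveI : IsProper (Curv2.bcSnd κ (pullback f σ) E) := NumTrivLib.isProper_bc E
    refine nt_of_iso e.symm (Curv2.bcSnd κ (pullback f σ) E) _ H.isoPullback_inv_snd
      ((Scheme.Modules.pullback e.inv).mapIso ((Scheme.Modules.pullbackComp _ _).app L) ≪≫
        (Scheme.Modules.pullbackComp _ _).app L ≪≫ (Scheme.Modules.pullbackCongr H.isoPullback_inv_fst).app L)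
      (NumTrivLib.NT.bc E h)

/-- Every field-valued point factors through the residue field. -/
theorem exists_factor {κ : Type u} [Field κ] (σ : Spec (CommRingCat.of κ) ⟶ S) {s : S}
    (hs : σ (IsLocalRing.closedPoint κ) = s) :
    ∃ ω : Spec (CommRingCat.of κ) ⟶ Spec (S.residueField s), ω ≫ S.fromSpecResidueField s = σ := by
  subst hs
  exact ⟨_, Scheme.descResidueField_stalkClosedPointTo_fromSpecResidueField κ S σ⟩

/-- The notion depends only on the point. -/
theorem ntfib_iff [IsProper f] (hL : PicF.IsInvertible L) {κ : Type u} [Field κ] (σ : Spec (CommRingCat.of κ) ⟶ S) {s : S}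
    (hs : σ (IsLocalRing.closedPoint κ) = s) : NTfib f L σ ↔ NTfib f L (S.fromSpecResidueField s) := by
  obtain ⟨ω, rfl⟩ := exists_factor σ hs
  exact ntfib_comp f L hL ω _

theorem range_point {κ : Type u} [Field κ] (σ : Spec (CommRingCat.of κ) ⟶ S) {s : S}
    (hs : σ (IsLocalRing.closedPoint κ) = s) : Set.range σ.base = {s} := by
  refine Set.eq_singleton_iff_nonempty_unique_mem.2 ⟨Set.range_nonempty _, ?_⟩
  rintro _ ⟨z, rfl⟩
  rw [Subsingleton.elim (α := PrimeSpectrum κ) z (IsLocalRing.closedPoint κ)]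
  exact hs

/-- τ-triviality at a point is numerical triviality of the fibre. -/
theorem tauTrivialAt_iff [IsProper f] (hL : PicF.IsInvertible L) (s : S) :
    Pic13.IsTauTrivialAt f L s ↔ NTfib f L (S.fromSpecResidueField s) := by
  constructor
  · intro h
    obtain ⟨Ω, _, _, ⟨ω⟩⟩ := AlgEquivLib.exists_geom S s
    obtain ⟨σ, hσdef⟩ : ∃ σ : Spec (CommRingCat.of Ω) ⟶ S, σ = ω ≫ S.fromSpecResidueField s := ⟨_, rfl⟩
    have hs : σ (IsLocalRing.closedPoint Ω) = s := by rw [hσdef]; exact Scheme.fromSpecResidueField_apply s _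
    refine (ntfib_comp f L hL ω _).1 (hσdef ▸ ?_)
    letI : (pullback f σ).Over (Spec (CommRingCat.of Ω)) := ⟨pullback.snd f σ⟩
    haveI : IsProper (pullback f σ ↘ Spec (CommRingCat.of Ω)) := inferInstanceAs (IsProper (pullback.snd f σ))
    have hinv := AmpleDevLib.isInvertible_pb (pullback.fst f σ) hL
    exact NumTrivLib.NT.of_isNumEquivZero hinv (Groth.Agent.S4278.result Ω _ _ hinv (h Ω σ (range_point σ hs)))
  · intro h Ω _ _ σ hσ
    letI : (pullback f σ).Over (Spec (CommRingCat.of Ω)) := ⟨pullback.snd f σ⟩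
    haveI : IsProper (pullback f σ ↘ Spec (CommRingCat.of Ω)) := inferInstanceAs (IsProper (pullback.snd f σ))
    exact BddFamLib.tau_of_NT Ω ((ntfib_iff f L hL σ (hσ.subset ⟨_, rfl⟩)).2 h)

end TauOpenLib

end
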