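import Groth.Agent.TauOpenLib.Fibre
import Groth.Agent.TauLocusLib.Closed
import Groth.Agent.S19202
import Groth.Agent.S4450
import Groth.Agent.CycP1Lib.Graph
import Groth.Agent.MiscFlat6.QuasiFlatTop

/-!
# Numerical triviality on fibres is stable under generisation
-/

set_option autoImplicit false
set_option linter.style.haveILetI false
set_option maxHeartbeats 1000000
universe u

open CategoryTheory CategoryTheory.Limits AlgebraicGeometry
open KFlatLib (pb)

noncomputable section

namespace TauOpenLib

variable {X S : Scheme.{u}} (f : X ⟶ S) [IsProper f] (L : X.Modules)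

/-- Compatibility with base change. -/
theorem ntfib_isPullback {X' T : Scheme.{u}} {g' : X' ⟶ X} {f' : X' ⟶ T} {g : T ⟶ S} (H₀ : IsPullback g' f' f g)
    {κ : Type u} [Field κ] (σ : Spec (CommRingCat.of κ) ⟶ T) :
    NTfib f' (pb g' L) σ ↔ NTfib f L (σ ≫ g) := by
  haveI : IsProper f' := MorphismProperty.of_isPullback H₀ ‹IsProper f›
  have H : IsPullback (pullback.fst f' σ ≫ g') (pullback.snd f' σ) f (σ ≫ g) :=
    (IsPullback.of_hasPullback _ _).paste_horiz H₀
  let e := H.isoPullback
  constructor
  · intro h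
    exact nt_of_iso e.symm (pullback.snd f' σ) _ H.isoPullback_inv_snd
      ((Scheme.Modules.pullback e.inv).mapIso ((Scheme.Modules.pullbackComp _ _).app L) ≪≫
        (Scheme.Modules.pullbackComp _ _).app L ≪≫ (Scheme.Modules.pullbackCongr H.isoPullback_inv_fst).app L) h
  · intro h
    exact nt_of_iso e (pullback.snd f _) _ H.isoPullback_hom_snd
      ((Scheme.Modules.pullbackComp _ _).app L ≪≫ (Scheme.Modules.pullbackCongr H.isoPullback_hom_fst).app L ≪≫
        ((Scheme.Modules.pullbackComp _ _).app L).symm) h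

theorem ntfib_bc {T : Scheme.{u}} (g : T ⟶ S) {κ : Type u} [Field κ] (σ : Spec (CommRingCat.of κ) ⟶ T) :
    NTfib (pullback.snd f g) (pb (pullback.fst f g) L) σ ↔ NTfib f L (σ ≫ g) :=
  ntfib_isPullback f L (IsPullback.of_hasPullback f g) σ

theorem isOpenImmersion_gen {R K : Type u} [CommRing R] [IsDomain R] [IsDiscreteValuationRing R] [Field K]
    [Algebra R K] [IsFractionRing R K] : IsOpenImmersion (Spec.map (CommRingCat.ofHom (algebraMap R K))) := by
  obtain ⟨ϖ, hϖ⟩ := IsDiscreteValuationRing.exists_irreducible R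
  haveI : IsLocalization.Away ϖ K := by
    refine ⟨fun ⟨y, n, hn⟩ => ?_, fun z => ?_, fun {x y} h => ⟨1, by rw [IsFractionRing.injective R K h]⟩⟩
    · subst hn
      exact (IsUnit.mk0 _ fun h => pow_ne_zero n hϖ.ne_zero (IsFractionRing.injective R K
        (h.trans (map_zero _).symm)))
    · obtain ⟨⟨a, b⟩, hab⟩ := IsLocalization.surj (nonZeroDivisors R) z
      obtain ⟨n, u, hb⟩ := IsDiscreteValuationRing.eq_unit_mul_pow_irreducible (nonZeroDivisors.ne_zero b.2) hϖ
      refine ⟨⟨a * ↑u⁻¹, ⟨ϖ ^ n, n, rfl⟩⟩, ?_⟩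
      show z * algebraMap R K (ϖ ^ n) = algebraMap R K (a * ↑u⁻¹)
      rw [map_mul, ← hab, mul_assoc, ← map_mul]
      show _ = z * algebraMap R K ((b : R) * ↑u⁻¹)
      rw [hb, mul_assoc, mul_comm (ϖ ^ n), Units.mul_inv_cancel_left]
  exact IsOpenImmersion.of_isLocalization ϖ

/-- Over a discrete valuation ring: from the closed fibre to the generic one. -/
theorem ntfib_generic {R K : Type u} [CommRing R] [IsDomain R] [IsDiscreteValuationRing R] [Field K] [Algebra R K]
    [IsFractionRing R K] {V : Scheme.{u}} (p : V ⟶ Spec (CommRingCat.of R)) [IsProper p] {M : V.Modules}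
    (hM : PicF.IsInvertible M) {s : Spec (CommRingCat.of R)}
    (h : NTfib p M ((Spec (CommRingCat.of R)).fromSpecResidueField s)) :
    NTfib p M (Spec.map (CommRingCat.ofHom (algebraMap R K))) := by
  let j := Spec.map (CommRingCat.ofHom (algebraMap R K))
  haveI : Flat j := by
    rw [HasRingHomProperty.Spec_iff (P := @Flat)]
    exact RingHom.flat_algebraMap_iff.2 (IsLocalization.flat K (nonZeroDivisors R))
  letI : (pullback p j).Over (Spec (CommRingCat.of K)) := ⟨pullback.snd p j⟩
  haveI : IsProper (pullback p j ↘ Spec (CommRingCat.of K)) := inferInstanceAs (IsProper (pullback.snd p j))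
  have hMj := AmpleDevLib.isInvertible_pb (pullback.fst p j) hM
  refine NumTrivLib.NT.of_isNumEquivZero hMj ?_
  intro Y i _ hY hdim
  let c := i ≫ pullback.fst p j
  let qY := i ≫ pullback.snd p j
  haveI : IsProper qY := inferInstanceAs (IsProper (i ≫ pullback.snd p j))
  have hc : c ≫ p = qY ≫ j := by simp only [c, qY, Category.assoc, pullback.condition]
  haveI : QuasiCompact c := by
    haveI : QuasiCompact (c ≫ p) := by rw [hc]; infer_instance
    exact QuasiCompact.of_comp c p
  haveI := CycP1Lib.isIntegral_image c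
  let gZ := c.imageι ≫ p
  haveI : IsProper gZ := inferInstanceAs (IsProper (c.imageι ≫ p))
  haveI : Flat qY := MiscFlat6.QFlat.flat_to_field (Field.toIsField K) qY
  haveI : Flat (qY ≫ j) := inferInstance
  haveI : Flat gZ := Groth.Agent.S19202.result R (qY ≫ j) p c hc
  haveI : LocallyOfFinitePresentation gZ := LocallyOfFinitePresentation.iff_locallyOfFiniteType.2 inferInstance
  -- the generic fibre of the image is the curve
  let ι : Y ⟶ pullback gZ j := pullback.lift c.toImage qY (by rw [← hc, ← Category.assoc c.toImage]; simp)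
  let m : pullback gZ j ⟶ pullback p j :=
    pullback.map gZ j p j c.imageι (𝟙 _) (𝟙 _) (Category.comp_id _) (by simp)
  have hm : ι ≫ m = i := by
    apply pullback.hom_ext
    · rw [Category.assoc]; simp only [m, pullback.lift_fst, ι]; rw [← Category.assoc, pullback.lift_fst]; simp [c]
    · rw [Category.assoc]; simp only [m, pullback.lift_snd, ι, Category.comp_id]; simp [qY]
  haveI : IsClosedImmersion ι := by
    haveI : IsClosedImmersion (ι ≫ m) := by rw [hm]; infer_instance
    haveI : IsSeparated m := by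
      haveI : IsSeparated (m ≫ pullback.snd p j) := by
        simp only [m, pullback.lift_snd, Category.comp_id]; infer_instance
      exact IsSeparated.of_comp m (pullback.snd p j)
    exact IsClosedImmersion.of_comp ι m
  haveI : IsOpenImmersion (pullback.fst gZ j) := by
    haveI : IsOpenImmersion j := isOpenImmersion_gen
    infer_instance
  haveI : IsReduced (pullback gZ j) := isReduced_of_isOpenImmersion (pullback.fst gZ j)
  haveI : Surjective ι := by
    have hdense : DenseRange (pullback.fst gZ j ∘ ι) := by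
      show DenseRange (ι ≫ pullback.fst gZ j : Y → c.image)
      rw [pullback.lift_fst]
      exact IsDominant.denseRange
    refine ⟨fun z => ?_⟩
    have hcl : IsClosed (Set.range ι) := ι.isClosedEmbedding.isClosed_range
    have : Dense (Set.range ι) :=
      dense_iff_closure_eq.2 (by
        rw [(pullback.fst gZ j).isOpenEmbedding.isEmbedding.closure_eq_preimage_closure_image, ← Set.range_comp,
          hdense.closure_range, Set.preimage_univ])
    exact (hcl.closure_eq ▸ this.closure_eq).ge (Set.mem_univ z)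
  haveI : IsIso ι := isIso_of_isClosedImmersion_of_surjective ι
  -- invariance of the Euler characteristic
  let N := pb c.imageι M
  have hN : PicF.IsInvertible N := AmpleDevLib.isInvertible_pb c.imageι hM
  have hN1 := CurvLib.isInvertible_structureModule (X := c.image)
  obtain ⟨-, hfp, hfl⟩ := CohCmpLib.rank_one_hyps gZ ((CohCmpLib.invertible_iff_rank_one N).1 hN)
  obtain ⟨-, hfp', hfl'⟩ := CohCmpLib.rank_one_hyps gZ ((CohCmpLib.invertible_iff_rank_one _).1 hN1)
  let η : Spec (CommRingCat.of R) := j (IsLocalRing.closedPoint K)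
  let σ₀ := (Spec (CommRingCat.of R)).fromSpecResidueField s
  have hrη : Set.range j.base = {η} := range_point j rfl
  have hrs : Set.range σ₀.base = {s} := Scheme.range_fromSpecResidueField s
  haveI : PreconnectedSpace (Spec (CommRingCat.of R)) := inferInstance
  have hcst : ∀ {A : c.image.Modules}, CohB1.IsFP A → FlatMod.IsFlatOver gZ A →
      PerfAux.eulerChar gZ A η = PerfAux.eulerChar gZ A s := fun hfp hfl =>
    (CohCmpLib.isLocallyConstant_eulerChar hfp hfl).apply_eq_of_preconnectedSpace η s
  -- the special fibre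
  letI : (pullback p σ₀).Over (Spec ((Spec (CommRingCat.of R)).residueField s)) := ⟨pullback.snd p σ₀⟩
  haveI : IsProper (pullback p σ₀ ↘ Spec ((Spec (CommRingCat.of R)).residueField s)) := inferInstanceAs (IsProper (pullback.snd p σ₀))
  letI : (pullback gZ σ₀).Over (Spec ((Spec (CommRingCat.of R)).residueField s)) := ⟨pullback.snd gZ σ₀⟩
  haveI : IsProper (pullback gZ σ₀ ↘ Spec ((Spec (CommRingCat.of R)).residueField s)) := inferInstanceAs (IsProper (pullback.snd gZ σ₀))
  let m₀ : pullback gZ σ₀ ⟶ pullback p σ₀ :=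
    pullback.map gZ σ₀ p σ₀ c.imageι (𝟙 _) (𝟙 _) (Category.comp_id _) (by simp)
  have h₀ : NumTrivLib.NT ((Spec (CommRingCat.of R)).residueField s) (pb (pullback.fst gZ σ₀) N) :=
    (NumTrivLib.NT.pullback (k := (Spec (CommRingCat.of R)).residueField s) (g := m₀) (pullback.lift_snd _ _ _ |>.trans (Category.comp_id _)) h).iso
      ((Scheme.Modules.pullbackComp _ _).app M ≪≫ (Scheme.Modules.pullbackCongr (pullback.lift_fst _ _ _)).app M ≪≫
        ((Scheme.Modules.pullbackComp _ _).app M).symm)
  haveI := CurvLib.isNoetherian ((Spec (CommRingCat.of R)).residueField s) (X := pullback gZ σ₀)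
  have h1 := NumTrivLib.Φ_eq_zero h₀ (DevissLib.isCoh_structureModule _)
  rw [NumTrivLib.Φ, CurvLib.euler_congr (HilbPolyLib.swapIso _ _ ≪≫ HilbPolyLib.unitLeft _),
    ← CurvLib.euler_congr (k := (Spec (CommRingCat.of R)).residueField s) (KFlatLib.pullUnitIso (pullback.fst gZ σ₀)),
    sub_eq_zero] at h1
  replace h1 := ((TauLocusLib.euler_fibre gZ hN σ₀ hrs).symm.trans h1).trans (TauLocusLib.euler_fibre gZ hN1 σ₀ hrs)
  rw [← hcst hfp hfl, ← hcst hfp' hfl', ← TauLocusLib.euler_fibre gZ hN j hrη,
    ← TauLocusLib.euler_fibre gZ hN1 j hrη] at h1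
  -- back to the curve
  letI : Y.Over (Spec (CommRingCat.of K)) := ⟨qY⟩
  letI : (pullback gZ j).Over (Spec (CommRingCat.of K)) := ⟨pullback.snd gZ j⟩
  haveI : IsProper (Y ↘ Spec (CommRingCat.of K)) := inferInstanceAs (IsProper qY)
  have hd : topologicalKrullDim Y ≤ ((1 : ℕ) : WithBot ℕ∞) := by rw [hdim, Nat.cast_one]
  haveI := CurvLib.isNoetherian K (X := Y)
  haveI := (CurvLib.isCoh_of_isInvertible (AmpleDevLib.isInvertible_pb i hMj)).1
  haveI := (DevissLib.isCoh_structureModule Y).1
  show FGA.eulerCharLE K Y (pb i (pb (pullback.fst p j) M)) 1 - FGA.eulerCharLE K Y (Coh.structureModule Y) 1 = 0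
  rw [HilbPolyLib.eulerCharLE_eq hd, HilbPolyLib.eulerCharLE_eq hd, sub_eq_zero]
  have hι : ι ≫ pullback.snd gZ j = qY := pullback.lift_snd _ _ _
  have hsq : IsPullback ι qY (pullback.snd gZ j) (𝟙 (Spec (CommRingCat.of K))) :=
    IsPullback.of_horiz_isIso ⟨by rw [Category.comp_id]; exact hι⟩
  have key : ∀ A : (pullback gZ j).Modules, PicF.IsInvertible A →
      Curv2.euler K Y (pb ι A) = Curv2.euler K (pullback gZ j) A := fun A hA =>
    AlgEquivLib.euler_field_ext (pullback.snd gZ j) ι qY (𝟙 _) hsq hA
  have hii : i ≫ pullback.fst p j = ι ≫ (pullback.fst gZ j ≫ c.imageι) := by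
    rw [pullback.lift_fst_assoc]; simp [c]
  refine (CurvLib.euler_congr (k := K) (X := Y) (M := pb i (pb (pullback.fst p j) M))
    (N := pb ι (pb (pullback.fst gZ j) N)) ?_).trans ?_
  · exact (Scheme.Modules.pullbackComp i (pullback.fst p j)).app M ≪≫
      (Scheme.Modules.pullbackCongr hii).app M ≪≫ ((Scheme.Modules.pullbackComp _ _).app M).symm ≪≫
      (Scheme.Modules.pullback ι).mapIso ((Scheme.Modules.pullbackComp _ _).app M).symm
  rw [key _ (AmpleDevLib.isInvertible_pb _ hN), h1, ← key _ (AmpleDevLib.isInvertible_pb _ hN1)]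
  exact CurvLib.euler_congr ((Scheme.Modules.pullback ι).mapIso (KFlatLib.pullUnitIso _) ≪≫ KFlatLib.pullUnitIso ι)

/-- **Numerical triviality on fibres is stable under generisation.** -/
theorem ntfib_of_specializes [IsLocallyNoetherian S] (hL : PicF.IsInvertible L) {η s : S} (h : η ⤳ s)
    (hs : NTfib f L (S.fromSpecResidueField s)) : NTfib f L (S.fromSpecResidueField η) := by
  rcases eq_or_ne s η with rfl | hne
  · exact hs
  obtain ⟨A, g, hA, hg, hgen⟩ := Groth.Agent.S4450.result (𝟙 S) η s h hne
  have hM := AmpleDevLib.isInvertible_pb (pullback.fst f g) hL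
  have h0 : NTfib (pullback.snd f g) (pb (pullback.fst f g) L)
      ((Spec (CommRingCat.of A)).fromSpecResidueField (IsLocalRing.closedPoint A)) := by
    rw [ntfib_bc, ntfib_iff f L hL _ (show _ = s from (congrArg g (Scheme.fromSpecResidueField_apply _ _)).trans hg)]
    exact hs
  have h1 := ntfib_generic (K := S.residueField η) (pullback.snd f g) hM h0
  rw [ntfib_bc] at h1
  rw [show Spec.map (CommRingCat.ofHom (algebraMap A (S.residueField η))) ≫ g = S.fromSpecResidueField η from
    hgen.trans (Category.comp_id _)] at h1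
  exact h1

end TauOpenLib

end
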