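import Groth.Agent.TauOpenLib.Spread
import Groth.Agent.S1654
import Groth.Agent.S4623
import Groth.Agent.S4664
import Groth.Agent.GRingLib.Geometric
import Groth.Agent.ChowLib.ChowAll
import Groth.Agent.AmpleDevLib.Components

/-!
# The τ-trivial locus is open
-/

set_option autoImplicit false
set_option linter.style.haveILetI false
set_option maxHeartbeats 1000000
universe u

open CategoryTheory CategoryTheory.Limits AlgebraicGeometry
open KFlatLib (pb)

noncomputable section

namespace TauOpenLib

/-- The point of the fraction field is the generic point. -/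
theorem genPoint {B k : Type u} [CommRing B] [IsDomain B] [Field k] [Algebra B k]
    (h : Function.Injective (algebraMap B k)) :
    Spec.map (CommRingCat.ofHom (algebraMap B k)) (IsLocalRing.closedPoint k) = genericPoint (Spec (CommRingCat.of B)) := by
  rw [genericPoint_eq_bot_of_affine]
  refine PrimeSpectrum.ext ?_
  show Ideal.comap (algebraMap B k) (IsLocalRing.maximalIdeal k) = ⊥
  rw [IsLocalRing.maximalIdeal_eq_bot, ← RingHom.ker_eq_comap_bot]
  exact (RingHom.injective_iff_ker_eq_bot _).1 h

/-- Pullback along a morphism over the base. -/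
theorem ntfib_map {X Z S : Scheme.{u}} (f : X ⟶ S) [IsProper f] (g : Z ⟶ X) [IsProper (g ≫ f)] {L : X.Modules}
    {κ : Type u} [Field κ] (σ : Spec (CommRingCat.of κ) ⟶ S) (h : NTfib f L σ) : NTfib (g ≫ f) (pb g L) σ := by
  letI : (pullback f σ).Over (Spec (CommRingCat.of κ)) := ⟨pullback.snd f σ⟩
  haveI : IsProper (pullback f σ ↘ Spec (CommRingCat.of κ)) := inferInstanceAs (IsProper (pullback.snd f σ))
  letI : (pullback (g ≫ f) σ).Over (Spec (CommRingCat.of κ)) := ⟨pullback.snd (g ≫ f) σ⟩
  haveI : IsProper (pullback (g ≫ f) σ ↘ Spec (CommRingCat.of κ)) := inferInstanceAs (IsProper (pullback.snd (g ≫ f) σ))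
  let m : pullback (g ≫ f) σ ⟶ pullback f σ := pullback.map _ _ _ _ g (𝟙 _) (𝟙 _) (Category.comp_id _) (by simp)
  exact (NumTrivLib.NT.pullback (k := κ) (g := m) ((pullback.lift_snd _ _ _).trans (Category.comp_id _)) h).iso
    ((Scheme.Modules.pullbackComp _ _).app L ≪≫ (Scheme.Modules.pullbackCongr (pullback.lift_fst _ _ _)).app L ≪≫
      ((Scheme.Modules.pullbackComp _ _).app L).symm)

/-- Numerical triviality is detected on a finite covering family. -/
theorem ntfib_of_cover {X S : Scheme.{u}} (f : X ⟶ S) [IsProper f] {L : X.Modules} (hL : PicF.IsInvertible L)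
    {ι : Type*} {Z : ι → Scheme.{u}} (g : ∀ i, Z i ⟶ X) [∀ i, IsProper (g i ≫ f)]
    {κ : Type u} [Field κ] (σ : Spec (CommRingCat.of κ) ⟶ S)
    (hcov : ∀ x : X, f x = σ (IsLocalRing.closedPoint κ) → ∃ i, x ∈ Set.range (g i))
    (h : ∀ i, NTfib (g i ≫ f) (pb (g i) L) σ) : NTfib f L σ := by
  letI : (pullback f σ).Over (Spec (CommRingCat.of κ)) := ⟨pullback.snd f σ⟩
  haveI : IsProper (pullback f σ ↘ Spec (CommRingCat.of κ)) := inferInstanceAs (IsProper (pullback.snd f σ))
  have hinv := AmpleDevLib.isInvertible_pb (pullback.fst f σ) hL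
  refine NumTrivLib.NT.of_isNumEquivZero hinv ?_
  intro Y c _ hY hdim
  haveI := hY
  let x₀ := pullback.fst f σ (c (genericPoint Y))
  have hx₀ : f x₀ = σ (IsLocalRing.closedPoint κ) := by
    change (pullback.fst f σ ≫ f) (c (genericPoint Y)) = _
    rw [pullback.condition, Scheme.Hom.comp_apply]
    exact congrArg σ (Subsingleton.elim (α := PrimeSpectrum κ) _ _)
  obtain ⟨i, z, hz⟩ := hcov x₀ hx₀
  letI : (pullback (g i ≫ f) σ).Over (Spec (CommRingCat.of κ)) := ⟨pullback.snd (g i ≫ f) σ⟩
  haveI : IsProper (pullback (g i ≫ f) σ ↘ Spec (CommRingCat.of κ)) :=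
    inferInstanceAs (IsProper (pullback.snd (g i ≫ f) σ))
  let m : pullback (g i ≫ f) σ ⟶ pullback f σ := pullback.map _ _ _ _ (g i) (𝟙 _) (𝟙 _) (Category.comp_id _) (by simp)
  have hm : m ≫ pullback.snd f σ = pullback.snd (g i ≫ f) σ := (pullback.lift_snd _ _ _).trans (Category.comp_id _)
  haveI : IsProper m := by
    haveI : IsProper (m ≫ pullback.snd f σ) := by rw [hm]; infer_instance
    exact IsProper.of_comp m (pullback.snd f σ)
  have hsq : IsPullback (pullback.fst (g i ≫ f) σ) m (g i) (pullback.fst f σ) := by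
    refine IsPullback.of_bot ?_ (pullback.lift_fst _ _ _).symm (IsPullback.of_hasPullback f σ)
    rw [hm]; exact IsPullback.of_hasPullback _ _
  have hgen : c (genericPoint Y) ∈ Set.range m := by
    obtain ⟨w, -, hw⟩ := Scheme.exists_preimage_of_isPullback hsq z (c (genericPoint Y)) hz
    exact ⟨w, hw⟩
  let qY : Y ⟶ Spec (CommRingCat.of κ) := c ≫ pullback.snd f σ
  letI : Y.Over (Spec (CommRingCat.of κ)) := ⟨qY⟩
  haveI : IsProper (Y ↘ Spec (CommRingCat.of κ)) := inferInstanceAs (IsProper (c ≫ pullback.snd f σ))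
  let q' : pullback m c ⟶ Spec (CommRingCat.of κ) := pullback.snd m c ≫ qY
  letI : (pullback m c).Over (Spec (CommRingCat.of κ)) := ⟨q'⟩
  haveI : IsProper (pullback m c ↘ Spec (CommRingCat.of κ)) := by
    show IsProper (pullback.snd m c ≫ c ≫ pullback.snd f σ); infer_instance
  haveI : Surjective (pullback.snd m c) := by
    refine ⟨fun y => ?_⟩
    obtain ⟨w, hw⟩ : c y ∈ Set.range m :=
      ((genericPoint_specializes y).map c.continuous).mem_closed m.isClosedMap.isClosed_range hgen
    obtain ⟨v, -, hv⟩ := Scheme.Pullback.exists_preimage_pullback (f := m) (g := c) w y hw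
    exact ⟨v, hv⟩
  have h1 : NumTrivLib.NT κ (pb (pullback.fst m c) (pb (pullback.fst (g i ≫ f) σ) (pb (g i) L))) := by
    refine NumTrivLib.NT.pullback (k := κ) (g := pullback.fst m c) ?_ (h i)
    show pullback.fst m c ≫ pullback.snd (g i ≫ f) σ = pullback.snd m c ≫ c ≫ pullback.snd f σ
    rw [← hm, pullback.condition_assoc]
  have h2 : NumTrivLib.NT κ (pb c (pb (pullback.fst f σ) L)) := by
    refine NumTrivLib.NT.descend (g := pullback.snd m c) rfl (AmpleDevLib.isInvertible_pb c hinv) (h1.iso ?_)
    refine (Scheme.Modules.pullback _).mapIso ((Scheme.Modules.pullbackComp _ _).app L) ≪≫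
      (Scheme.Modules.pullbackComp _ _).app L ≪≫ (Scheme.Modules.pullbackCongr ?_).app L ≪≫
      ((Scheme.Modules.pullbackComp _ _).app L).symm ≪≫ ((Scheme.Modules.pullbackComp _ _).app _).symm
    rw [hsq.w, pullback.condition_assoc, Category.assoc]
  haveI := CurvLib.isNoetherian κ (X := Y)
  have h3 := NumTrivLib.Φ_eq_zero h2 (DevissLib.isCoh_structureModule Y)
  rw [NumTrivLib.Φ, CurvLib.euler_congr (HilbPolyLib.swapIso _ _ ≪≫ HilbPolyLib.unitLeft _)] at h3
  have hd : topologicalKrullDim Y ≤ ((1 : ℕ) : WithBot ℕ∞) := by rw [hdim, Nat.cast_one]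
  haveI := (CurvLib.isCoh_of_isInvertible (AmpleDevLib.isInvertible_pb c hinv)).1
  haveI := (DevissLib.isCoh_structureModule Y).1
  show FGA.eulerCharLE κ Y (pb c (pb (pullback.fst f σ) L)) 1 - FGA.eulerCharLE κ Y (Coh.structureModule Y) 1 = 0
  rw [HilbPolyLib.eulerCharLE_eq hd, HilbPolyLib.eulerCharLE_eq hd]
  exact h3

/-- Closed immersions into projective space base change. -/
theorem exists_projective_bc {S S' X : Scheme.{u}} {n : ℕ} (q : S' ⟶ S) (j : X ⟶ CohB1.ProjSpaceOver n S)
    [IsClosedImmersion j] :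
    ∃ j' : pullback (j ≫ CohB1.ProjSpaceOver.toBase n S) q ⟶ CohB1.ProjSpaceOver n S',
      IsClosedImmersion j' ∧
        j' ≫ CohB1.ProjSpaceOver.toBase n S' = pullback.snd (j ≫ CohB1.ProjSpaceOver.toBase n S) q := by
  have hT := IsPullback.of_hasPullback (CohB1.ProjSpace.toSpec n (ULift.{u} ℤ)) (specULiftZIsTerminal.from S')
  let P : CohB1.ProjSpaceOver n S' ⟶ CohB1.ProjSpaceOver n S :=
    pullback.map _ _ _ _ (𝟙 _) q (𝟙 _) (by simp) (specULiftZIsTerminal.hom_ext _ _)
  have hP : IsPullback P (CohB1.ProjSpaceOver.toBase n S') (CohB1.ProjSpaceOver.toBase n S) q := by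
    refine IsPullback.of_right ?_ (pullback.lift_snd _ _ _)
      (IsPullback.of_hasPullback (CohB1.ProjSpace.toSpec n (ULift.{u} ℤ)) (specULiftZIsTerminal.from S))
    rw [show P ≫ pullback.fst _ _ = pullback.fst (CohB1.ProjSpace.toSpec n (ULift.{u} ℤ))
        (specULiftZIsTerminal.from S') from (pullback.lift_fst _ _ _).trans (Category.comp_id _),
      show q ≫ specULiftZIsTerminal.from S = specULiftZIsTerminal.from S' from specULiftZIsTerminal.hom_ext _ _]
    exact hT
  let j' := hP.lift (pullback.fst (j ≫ CohB1.ProjSpaceOver.toBase n S) q ≫ j)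
    (pullback.snd (j ≫ CohB1.ProjSpaceOver.toBase n S) q) (by rw [Category.assoc]; exact pullback.condition)
  have h' : IsPullback (pullback.fst (j ≫ CohB1.ProjSpaceOver.toBase n S) q) j' j P := by
    refine IsPullback.of_bot ?_ (hP.lift_fst _ _ _).symm hP
    rw [hP.lift_snd]; exact IsPullback.of_hasPullback _ _
  exact ⟨j', MorphismProperty.of_isPullback h' ‹IsClosedImmersion j›, hP.lift_snd _ _ _⟩

/-- Spreading out over the spectrum of a Noetherian domain, in the projective case. -/
theorem ntfib_spread_proj {A : Type u} [CommRing A] [IsDomain A] [IsNoetherianRing A] {n : ℕ} {X : Scheme.{u}}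
    (j : X ⟶ CohB1.ProjSpaceOver n (Spec (CommRingCat.of A))) [IsClosedImmersion j] {L : X.Modules}
    (hL : PicF.IsInvertible L)
    (h : NTfib (j ≫ CohB1.ProjSpaceOver.toBase n _) L
      ((Spec (CommRingCat.of A)).fromSpecResidueField (genericPoint (Spec (CommRingCat.of A))))) :
    ∃ U : (Spec (CommRingCat.of A)).Opens, (U : Set (Spec (CommRingCat.of A))).Nonempty ∧
      ∀ s ∈ U, NTfib (j ≫ CohB1.ProjSpaceOver.toBase n _) L ((Spec (CommRingCat.of A)).fromSpecResidueField s) := by
  classical
  obtain ⟨f, hf⟩ : ∃ f, f = j ≫ CohB1.ProjSpaceOver.toBase n (Spec (CommRingCat.of A)) := ⟨_, rfl⟩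
  haveI : IsProper f := by rw [hf]; infer_instance
  rw [← hf] at h ⊢
  let K := FractionRing A
  let gK := Spec.map (CommRingCat.ofHom (algebraMap A K))
  letI : (pullback f gK).Over (Spec (CommRingCat.of K)) := ⟨pullback.snd f gK⟩
  haveI : IsProper (pullback f gK ↘ Spec (CommRingCat.of K)) := inferInstanceAs (IsProper (pullback.snd f gK))
  haveI := CurvLib.isNoetherian K (X := pullback f gK)
  obtain ⟨k', _, _, _, _, hgi⟩ := Groth.Agent.S1654.result K (pullback f gK)
    TopologicalSpace.NoetherianSpace.finite_irreducibleComponents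
  letI : Algebra A k' := ((algebraMap K k').comp (algebraMap A K)).toAlgebra
  haveI : IsScalarTower A K k' := .of_algebraMap_eq fun _ => rfl
  obtain ⟨B, _, _, hinj⟩ := GRingLib.exists_finite_domain_generic A k'
  haveI : IsNoetherianRing B := IsNoetherianRing.of_finite A B
  haveI : IsNoetherian (Spec (CommRingCat.of B)) := inferInstance
  let q : Spec (CommRingCat.of B) ⟶ Spec (CommRingCat.of A) := Spec.map (CommRingCat.ofHom (algebraMap A B))
  haveI : IsFinite q := (IsFinite.SpecMap_iff _).2 (RingHom.finite_algebraMap.2 inferInstance)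
  subst hf
  obtain ⟨j', hj', hj'b⟩ := exists_projective_bc q j
  haveI := hj'
  let fA := j ≫ CohB1.ProjSpaceOver.toBase n (Spec (CommRingCat.of A))
  let f' := pullback.snd fA q
  let L' := pb (pullback.fst fA q) L
  -- the generic fibre
  let gB : Spec (CommRingCat.of k') ⟶ Spec (CommRingCat.of B) := Spec.map (CommRingCat.ofHom (algebraMap B k'))
  let v : Spec (CommRingCat.of k') ⟶ Spec (CommRingCat.of K) := Spec.map (CommRingCat.ofHom (algebraMap K k'))
  have hgq : gB ≫ q = v ≫ gK := by
    simp only [gB, q, v, gK, ← Spec.map_comp, ← CommRingCat.ofHom_comp]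
    congr 2
  let G := Curv2.bc K (pullback fA gK) k'
  have hG : IsPullback (Curv2.bcFst K (pullback fA gK) k' ≫ pullback.fst fA gK) (Curv2.bcSnd K (pullback fA gK) k') fA
      (gB ≫ q) := by
    rw [hgq]; exact (IsPullback.of_hasPullback _ _).paste_horiz (IsPullback.of_hasPullback fA gK)
  let c : G ⟶ pullback fA q := pullback.lift (Curv2.bcFst K (pullback fA gK) k' ≫ pullback.fst fA gK)
    (Curv2.bcSnd K (pullback fA gK) k' ≫ gB) (by rw [hG.w, Category.assoc])
  have hc : IsPullback c (Curv2.bcSnd K (pullback fA gK) k') f' gB := by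
    refine IsPullback.of_right ?_ (pullback.lift_snd _ _ _) (IsPullback.of_hasPullback fA q)
    rw [pullback.lift_fst]; exact hG
  haveI : IsPreimmersion gB := IsPreimmersion.of_isLocalization (nonZeroDivisors B)
  haveI : IsPreimmersion c := MorphismProperty.of_isPullback hc.flip ‹IsPreimmersion gB›
  haveI : QuasiCompact c := MorphismProperty.of_isPullback hc.flip (inferInstance : QuasiCompact gB)
  have hgB : gB (IsLocalRing.closedPoint k') = genericPoint (Spec (CommRingCat.of B)) :=
    genPoint (IsFractionRing.injective B k')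
  haveI : IsProper f' := inferInstanceAs (IsProper (pullback.snd fA q))
  haveI : IsNoetherian G := by
    haveI : IsProper (Curv2.bcSnd K (pullback fA gK) k') := NumTrivLib.isProper_bc (k := K) k'
    letI := HilbPolyLib.bcOver (k := K) (X := pullback fA gK) k'
    exact CurvLib.isNoetherian k' (X := G)
  let ι := {T : Set G // T ∈ irreducibleComponents (G : Type u)}
  haveI : Finite ι := TopologicalSpace.NoetherianSpace.finite_irreducibleComponents.to_subtype
  let tι := fun T : ι => (Scheme.IdealSheafData.vanishingIdeal ⟨T.1, isClosed_of_mem_irreducibleComponents T.1 T.2⟩).subschemeι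
  let e := fun T : ι => (tι T ≫ c).imageι
  have hhull : ∀ (T : ι), Set.range (e T) = closure (c '' T.1) := fun T => by
    show Set.range (tι T ≫ c).imageι = _
    rw [show (Set.range (tι T ≫ c).imageι) = _ from Scheme.IdealSheafData.range_subschemeι _, Scheme.Hom.support_ker, Scheme.Hom.comp_base, TopCat.coe_comp, Set.range_comp]
    congr 2
    exact (Scheme.IdealSheafData.range_subschemeι _).trans (Scheme.IdealSheafData.coe_support_vanishingIdeal _)
  -- each piece spreads
  have hpiece : ∀ T : ι, ∃ U : (Spec (CommRingCat.of B)).Opens, (U : Set (Spec (CommRingCat.of B))).Nonempty ∧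
      ∀ s ∈ U, NTfib (e T ≫ f') (pb (e T) L') ((Spec (CommRingCat.of B)).fromSpecResidueField s) := fun T => by
    haveI hTint : IsIntegral (Scheme.IdealSheafData.vanishingIdeal
        ⟨T.1, isClosed_of_mem_irreducibleComponents T.1 T.2⟩).subscheme :=
      AmpleDevLib.isIntegral_vanishingIdeal _ T.2.1
    let t := (tι T ≫ c).toImage
    have ht : t ≫ e T = tι T ≫ c := Scheme.Hom.toImage_imageι _
    let fZ := e T ≫ f'
    let η := genericPoint (Spec (CommRingCat.of B))
    obtain ⟨ω, hω⟩ := exists_factor gB hgB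
    haveI : Surjective ω := ⟨fun p => ⟨IsLocalRing.closedPoint k', Subsingleton.elim (α := PrimeSpectrum _) _ _⟩⟩
    let fη := fZ.fiberToSpecResidueField η
    have hP : IsPullback (pullback.fst fη ω ≫ fZ.fiberι η) (pullback.snd fη ω) fZ gB := by
      rw [← hω]
      exact (IsPullback.of_hasPullback fη ω).paste_horiz (IsPullback.of_hasPullback _ _)
    haveI : IsPreimmersion (pullback.fst fη ω ≫ fZ.fiberι η) :=
      MorphismProperty.of_isPullback hP.flip ‹IsPreimmersion gB›
    let b : _ ⟶ pullback fη ω := hP.lift t (tι T ≫ Curv2.bcSnd K (pullback fA gK) k') (by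
      simp only [fZ, ← Category.assoc, ht]
      rw [Category.assoc, hc.w, Category.assoc])
    haveI : Surjective b := ⟨fun p => by
      let z := (pullback.fst fη ω ≫ fZ.fiberι η) p
      have hz : f' (e T z) = gB (pullback.snd fη ω p) := by
        rw [← Scheme.Hom.comp_apply, ← Scheme.Hom.comp_apply, ← Scheme.Hom.comp_apply]
        exact congrArg (fun φ => φ p) hP.w
      obtain ⟨g, hg, -⟩ := Scheme.exists_preimage_of_isPullback hc (e T z) (pullback.snd fη ω p) hz
      have hgT : g ∈ T.1 := by
        have h1 : c g ∈ closure (c '' T.1) := by rw [hg, ← hhull T]; exact ⟨z, rfl⟩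
        have h2 : g ∈ closure T.1 := by
          rw [c.isEmbedding.closure_eq_preimage_closure_image]; exact h1
        rwa [(isClosed_of_mem_irreducibleComponents T.1 T.2).closure_eq] at h2
      obtain ⟨w, hw⟩ : g ∈ Set.range (tι T) := by
        rw [show Set.range (tι T) = T.1 from (Scheme.IdealSheafData.range_subschemeι _).trans
          (Scheme.IdealSheafData.coe_support_vanishingIdeal _)]
        exact hgT
      refine ⟨w, (pullback.fst fη ω ≫ fZ.fiberι η).isEmbedding.injective ?_⟩
      rw [← Scheme.Hom.comp_apply, hP.lift_fst]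
      refine (e T).isEmbedding.injective ?_
      rw [← Scheme.Hom.comp_apply, ht, Scheme.Hom.comp_apply, hw, hg]⟩
    haveI := hgi T.1 T.2
    haveI : GeometricallyIrreducible (pullback.snd fη ω) :=
      Groth.Agent.S4623.result (tι T ≫ Curv2.bcSnd K (pullback fA gK) k') _ b (hP.lift_snd _ _ _)
    haveI hfη : GeometricallyIrreducible fη := Groth.Agent.S4664.result fη ω
    haveI : IsIntegral (tι T ≫ c).image := CycP1Lib.isIntegral_image _
    have hcomp : (e T ≫ j') ≫ CohB1.ProjSpaceOver.toBase n (Spec (CommRingCat.of B)) = fZ := by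
      rw [Category.assoc, hj'b]
    haveI : GeometricallyIrreducible
        (((e T ≫ j') ≫ CohB1.ProjSpaceOver.toBase n (Spec (CommRingCat.of B))).fiberToSpecResidueField η) := by
      rw [hcomp]; exact hfη
    have hL'i : PicF.IsInvertible L' := AmpleDevLib.isInvertible_pb _ hL
    have h0 : NTfib f' L' ((Spec (CommRingCat.of B)).fromSpecResidueField η) := by
      rw [ntfib_bc, ntfib_iff fA L hL _ (s := genericPoint (Spec (CommRingCat.of A))) ?_]
      · exact h
      refine (congrArg q ((Scheme.fromSpecResidueField_apply η _).trans hgB.symm)).trans ?_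
      rw [← Scheme.Hom.comp_apply, hgq]
      exact (congrArg gK (Subsingleton.elim (α := PrimeSpectrum K) (v _) (IsLocalRing.closedPoint K))).trans
        (genPoint (IsFractionRing.injective A K))
    obtain ⟨U, hU, hUnt⟩ := ntfib_spread_irred (e T ≫ j') (AmpleDevLib.isInvertible_pb (e T) hL'i) (by
      rw [hcomp]; exact ntfib_map f' (e T) _ h0)
    rw [hcomp] at hUnt
    exact ⟨U, hU, hUnt⟩
  choose U hU hUnt using hpiece
  -- the rest of the space stays away from the generic point
  let η := genericPoint (Spec (CommRingCat.of B))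
  haveI : IsNoetherian (pullback fA q) := by
    haveI : IsProper f' := inferInstanceAs (IsProper (pullback.snd fA q))
    haveI : IsLocallyNoetherian (pullback fA q) := LocallyOfFiniteType.isLocallyNoetherian f'
    haveI : CompactSpace ↥(pullback fA q) := QuasiCompact.compactSpace_of_compactSpace f'
    constructor
  let comps := irreducibleComponents ↥(pullback fA q)
  haveI : Finite comps := TopologicalSpace.NoetherianSpace.finite_irreducibleComponents.to_subtype
  let Bad : Set (Spec (CommRingCat.of B)) :=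
    ⋃ W : {W : comps // f' W.2.1.genericPoint ≠ η}, closure {f' W.1.2.1.genericPoint}
  have hBad : IsClosed Bad := isClosed_iUnion_of_finite fun W => isClosed_closure
  have hηBad : η ∉ Bad := by
    intro hm
    obtain ⟨W, hW⟩ := Set.mem_iUnion.mp hm
    exact W.2 ((specializes_iff_mem_closure.mpr hW).antisymm (genericPoint_specializes _)).eq
  let U' : Set (Spec (CommRingCat.of B)) := Badᶜ ∩ ⋂ T : ι, (U T : Set (Spec (CommRingCat.of B)))
  have hU'o : IsOpen U' := hBad.isOpen_compl.inter (isOpen_iInter_of_finite fun T => (U T).2)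
  have hηU' : η ∈ U' := ⟨hηBad, Set.mem_iInter.mpr fun T =>
    ((genericPoint_spec _).mem_open_set_iff (U T).2).mpr (by simpa using hU T)⟩
  have hcov : ∀ x, f' x ∈ U' → ∃ T : ι, x ∈ Set.range (e T) := by
    intro x hx
    let W : comps := ⟨irreducibleComponent x, irreducibleComponent_mem_irreducibleComponents x⟩
    have hWx : W.2.1.genericPoint ⤳ x :=
      specializes_iff_mem_closure.mpr (by
        rw [W.2.1.closure_genericPoint isClosed_irreducibleComponent]; exact mem_irreducibleComponent)
    by_cases hWη : f' W.2.1.genericPoint = η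
    · obtain ⟨g, hg, -⟩ := Scheme.exists_preimage_of_isPullback hc W.2.1.genericPoint (IsLocalRing.closedPoint k')
        (hWη.trans hgB.symm)
      refine ⟨⟨irreducibleComponent g, irreducibleComponent_mem_irreducibleComponents g⟩, ?_⟩
      rw [hhull]
      exact hWx.mem_closed isClosed_closure (subset_closure ⟨g, mem_irreducibleComponent, hg⟩)
    · exact absurd (Set.mem_iUnion.mpr ⟨⟨W, hWη⟩,
        specializes_iff_mem_closure.mp (hWx.map f'.continuous)⟩) hx.1
  -- descend to the base
  let V : (Spec (CommRingCat.of A)).Opens := ⟨(q '' U'ᶜ)ᶜ, (q.isClosedMap _ hU'o.isClosed_compl).isOpen_compl⟩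
  haveI : Algebra.IsIntegral A B := inferInstance
  have hsurj : Function.Surjective q := fun p => by
    obtain ⟨Q, -, hQp, hQ⟩ := Ideal.exists_ideal_over_prime_of_isIntegral p.asIdeal (⊥ : Ideal B) (by
      rw [← RingHom.ker_eq_comap_bot, (RingHom.injective_iff_ker_eq_bot _).1 hinj]; exact bot_le)
    exact ⟨⟨Q, hQp⟩, PrimeSpectrum.ext hQ⟩
  refine ⟨V, ⟨genericPoint _, ?_⟩, fun s hs => ?_⟩
  · rintro ⟨b, hb, hbq⟩
    refine hb ?_
    have : b = η := by
      refine PrimeSpectrum.ext ?_
      rw [show η.asIdeal = ⊥ from congrArg PrimeSpectrum.asIdeal (genericPoint_eq_bot_of_affine _)]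
      refine Ideal.eq_bot_of_comap_eq_bot (R := A) ?_
      rw [genericPoint_eq_bot_of_affine] at hbq
      exact congrArg PrimeSpectrum.asIdeal hbq
    rw [this]; exact hηU'
  · obtain ⟨b, rfl⟩ := hsurj s
    have hb : b ∈ U' := not_not.mp fun hb => hs ⟨b, hb, rfl⟩
    refine (ntfib_iff fA L hL _ (congrArg q (Scheme.fromSpecResidueField_apply b _))).1
      ((ntfib_bc fA L q _).1 ?_)
    refine ntfib_of_cover f' (AmpleDevLib.isInvertible_pb _ hL) e _ (fun x hx => hcov x ?_) fun T =>
      hUnt T b (Set.mem_iInter.mp hb.2 T)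
    rw [hx]
    exact (Scheme.fromSpecResidueField_apply b _).symm ▸ hb

end TauOpenLib

end
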