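import Groth.Agent.TauOpenLib.Gen
import Groth.Agent.S0419
import Groth.Agent.S0414

/-!
# Numerical triviality spreads out from the generic fibre
-/

set_option autoImplicit false
set_option linter.style.haveILetI false
set_option maxHeartbeats 1000000
universe u

open CategoryTheory CategoryTheory.Limits AlgebraicGeometry
open KFlatLib (pb)

noncomputable section

namespace TauOpenLib

/-- Restriction to smaller opens. -/
theorem restrict_of_le {P : MorphismProperty Scheme.{u}} [P.IsStableUnderBaseChange] {Z S : Scheme.{u}} (f : Z ⟶ S)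
    {U V : S.Opens} (h : U ≤ V) (hV : P (f ∣_ V)) : P (f ∣_ U) := by
  let t : (f ⁻¹ᵁ U).toScheme ⟶ (f ⁻¹ᵁ V).toScheme := Z.homOfLE (Scheme.Hom.preimage_mono _ h)
  have hA : IsPullback (f ∣_ U) (t ≫ (f ⁻¹ᵁ V).ι) (S.homOfLE h ≫ V.ι) f := by
    rw [Scheme.homOfLE_ι, Scheme.homOfLE_ι]
    exact isPullback_morphismRestrict f U
  have hw : (f ∣_ U) ≫ S.homOfLE h = t ≫ (f ∣_ V) := by
    rw [← cancel_mono V.ι, Category.assoc, Category.assoc, Scheme.homOfLE_ι, morphismRestrict_ι,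
      morphismRestrict_ι, Scheme.homOfLE_ι_assoc]
  exact MorphismProperty.of_isPullback (IsPullback.of_bot hA hw (isPullback_morphismRestrict f V)).flip hV

/-- The irreducible projective case. -/
theorem ntfib_spread_irred {S Z : Scheme.{u}} [IsNoetherian S] [IsIntegral S] {n : ℕ}
    (j : Z ⟶ CohB1.ProjSpaceOver n S) [IsClosedImmersion j]
    [GeometricallyIrreducible ((j ≫ CohB1.ProjSpaceOver.toBase n S).fiberToSpecResidueField (genericPoint S))]
    {M : Z.Modules} (hM : PicF.IsInvertible M)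
    (h : NTfib (j ≫ CohB1.ProjSpaceOver.toBase n S) M (S.fromSpecResidueField (genericPoint S))) :
    ∃ U : S.Opens, (U : Set S).Nonempty ∧
      ∀ s ∈ U, NTfib (j ≫ CohB1.ProjSpaceOver.toBase n S) M (S.fromSpecResidueField s) := by
  obtain ⟨f, hf⟩ : ∃ f, f = j ≫ CohB1.ProjSpaceOver.toBase n S := ⟨_, rfl⟩
  haveI : IsProper f := by rw [hf]; infer_instance
  rw [← hf] at h ⊢
  haveI : GeometricallyIrreducible (f.fiberToSpecResidueField (genericPoint S)) := by subst hf; infer_instance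
  obtain ⟨V₁, hV₁, hgi⟩ := Groth.Agent.S0419.result f inferInstance
  obtain ⟨V₂, hV₂, hfl, -⟩ := Groth.Agent.S0414.result f
  obtain ⟨U, hU, hηU, hUV⟩ := exists_isAffineOpen_mem_and_subset (x := genericPoint S) (U := V₁ ⊓ V₂)
    ⟨((genericPoint_spec S).mem_open_set_iff V₁.2).mpr (by simpa using hV₁),
      ((genericPoint_spec S).mem_open_set_iff V₂.2).mpr (by simpa using hV₂.nonempty)⟩
  haveI : Flat (f ∣_ U) := restrict_of_le (P := @Flat) f (fun x hx => (hUV hx).2) hfl
  haveI : GeometricallyIrreducible (f ∣_ U) :=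
    restrict_of_le (P := @GeometricallyIrreducible) f (fun x hx => (hUV hx).1) hgi
  let f' := f ∣_ U
  haveI : IsProper f' := MorphismProperty.of_isPullback (isPullback_morphismRestrict f U).flip ‹IsProper f›
  haveI : IsNoetherian (U : Scheme.{u}) := by
    haveI : CompactSpace (U : Scheme.{u}) := isCompact_iff_compactSpace.mp hU.isCompact
    constructor
  haveI : LocallyOfFinitePresentation f' := LocallyOfFinitePresentation.iff_locallyOfFiniteType.2 inferInstance
  let A := (Scheme.Modules.pullback j).obj (Twist.twistOver n S 1)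
  have hA : PicF.IsInvertible A :=
    AmpleDevLib.isInvertible_pb j (AmpleDevLib.isInvertible_pb _ (PicPnLib.twist_inv n (ULift.{u} ℤ) 1))
  let ι := (f ⁻¹ᵁ U).ι
  have hamp : ∀ W : (U : Scheme.{u}).Opens, IsAffineOpen W →
      CohB1.IsAmple ((pb ι A).restrict (f' ⁻¹ᵁ W).ι) := by
    intro W hW
    have hW' : IsAffineOpen (U.ι ''ᵁ W) := hW.image_of_isOpenImmersion U.ι
    have h1 : CohB1.IsAmple (A.restrict (f ⁻¹ᵁ (U.ι ''ᵁ W)).ι) := by
      subst hf
      exact PnCohLib.isAmple_twist_restrict (i := j) hW'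
    have hr : Set.range ((f' ⁻¹ᵁ W).ι ≫ ι).base = Set.range (f ⁻¹ᵁ (U.ι ''ᵁ W)).ι.base := by
      rw [Scheme.Opens.range_ι, ← image_morphismRestrict_preimage, Scheme.Hom.comp_base, TopCat.coe_comp,
        Set.range_comp, Scheme.Opens.range_ι]
      rfl
    let e := IsOpenImmersion.isoOfRangeEq ((f' ⁻¹ᵁ W).ι ≫ ι) (f ⁻¹ᵁ (U.ι ''ᵁ W)).ι hr
    have he : e.hom ≫ (f ⁻¹ᵁ (U.ι ''ᵁ W)).ι = (f' ⁻¹ᵁ W).ι ≫ ι := IsOpenImmersion.isoOfRangeEq_hom_fac _ _ _
    have hi := AmpleThLib.restrict_isInvertible (j := (f ⁻¹ᵁ (U.ι ''ᵁ W)).ι) hA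
    exact AmpleDevLib.isAmple_of_iso (AmpleDevLib.isInvertible_pb e.hom hi)
      (AmpleThLib.restrict_isInvertible (j := (f' ⁻¹ᵁ W).ι) (AmpleDevLib.isInvertible_pb ι hA))
      ((Scheme.Modules.pullback e.hom).mapIso
          ((Scheme.Modules.restrictFunctorIsoPullback (f ⁻¹ᵁ (U.ι ''ᵁ W)).ι).app A) ≪≫
        (Scheme.Modules.pullbackComp _ _).app A ≪≫ (Scheme.Modules.pullbackCongr he).app A ≪≫
        ((Scheme.Modules.pullbackComp _ _).app A).symm ≪≫
        ((Scheme.Modules.restrictFunctorIsoPullback (f' ⁻¹ᵁ W).ι).app (pb ι A)).symm)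
      (AmpleDevLib.isAmple_pb e.hom hi h1)
  have hM' := AmpleDevLib.isInvertible_pb ι hM
  have hcl := TauLocusLib.isClosed_tauTrivialLocus f' (fun Ω _ _ σ =>
    GeometricallyIrreducible.geometrically_irreducibleSpace σ _ _ (IsPullback.of_hasPullback f' σ))
    (AmpleDevLib.isInvertible_pb ι hA) hamp hM'
  have key : ∀ x : (U : Scheme.{u}), Pic13.IsTauTrivialAt f' (pb ι M) x ↔
      NTfib f M (S.fromSpecResidueField (U.ι x)) := fun x => by
    rw [tauTrivialAt_iff f' _ hM', ntfib_isPullback f M (isPullback_morphismRestrict f U).flip,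
      ntfib_iff f M hM _ (congrArg U.ι (Scheme.fromSpecResidueField_apply _ _))]
  refine ⟨U, ⟨_, hηU⟩, fun s hs => (key ⟨s, hs⟩).1 ?_⟩
  have hη : (⟨genericPoint S, hηU⟩ : U) ∈ {x : (U : Scheme.{u}) | Pic13.IsTauTrivialAt f' (pb ι M) x} := (key _).2 h
  have hsp : (⟨genericPoint S, hηU⟩ : U) ⤳ ⟨s, hs⟩ :=
    U.ι.isOpenEmbedding.isInducing.specializes_iff.1 (genericPoint_specializes s)
  exact hsp.mem_closed hcl hη

end TauOpenLib

end
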